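-- Certificate data for MWE6; generated by a coset enumerator, checked by the kernel.
import Cfsg.Agent.Lib.Compute.TCFast
import Cfsg.Agent.Lib.Fischer.M23.Mult.Words
set_option autoImplicit false
set_option maxRecDepth 1000000

open Cfsg.Agent.Lib.Compute.ToddCoxeterCore Cfsg.Agent.Lib.Compute.ToddCoxeterPresented Cfsg.Agent.Lib.Compute.TCFast

namespace Cfsg.Agent.Lib.Compute.TC.MWE6

/-- the packed entries -/
noncomputable def tE : TT := .leaf (nat_lit 0xffffff000000000000009820000a100001a0004000019300009d000019000000008120000a200001a000000006920000a000001a0000000049200009f00001a0000000021200009e00001a00000000000ffffff000000000000008c200009a0000190000000000100009c00001a00030000183000097000018000000005d200009b000019000000004120000990000190000000019200009800001900000000000ffffff00000000000000702000095000018000000006820000930000180000000000100009600001900020000173000091000017000000003520000940000180000000011200009200001800000000000ffffff0000000005000015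300008a0000150000000099200008f000017000000008d200008e000017000000000010000900000180000000051200008c0000160000000029200008b00001700000000000ffffff0000000005000013300008300001300000000992000087000016000000008d2000086000016000000007120000880000160001000017300008d0000170000000029200008400001400000000000ffffff000000000000000010000890000170000000048200007f0000150000000040200007e000015000000003420000810000150001000013300007d0000130000000005200008000001500000000000ffffff000000000500001230000770000120000000099200007a000014000000008d20000790000140000000071200007b000014000000005120000780000140000000016300008500001600000000000ffffff0000000000000000100008200001600000000682000074000013000000005c2000075000013000200001130000710000110000000000100007c0000150000000011200007200001200000000000ffffff000000000000000010000760000140000000068200006d000012000000005c200006f0000120002000010300006c0000100000000035200006e0000120000000013300007300001300000000000ffffff000000000000008c20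000690000110000000080200006a000011000300000f300006500000f00000000001000070000013000000004120000680000110000000019200006600001000000000000ffffff000000000000008c200006200001000000000802000063000010000300000c300005f00000c0000000000100006b0000120000000041200006000000d0000000011300006700001100000000000ffffff0000000000000028200005c00000f0000000020200005a00000e000000000010000640000110000000010200005900000f0000000004200005d00000f000000000c300005800000c00000000000ffffff0000000000000028200005500000e000400000f300005b00000f0000000018200005400000e0000000010200005300000e0000000004200005600000e000000000b300005200000b00000000000ffffff000000000000008c200004e00000d0000000080200005000000d000300000a300004c00000a000000005d200004f00000d000100001030000610000100000000019200004d00000d00000000000ffffff0000000000000050200004900000c0000000048200004700000b0000000000100005e0000100000000034200004a00000c000100000a300004600000a0000000000100005700000f00000000000ffffff00000000000000502000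04300000b000400000c300004800000c0000000040200004200000b0000000034200004400000b000100000930000410000090000000000100005100000e00000000000ffffff0000000000000070200003f00000a0000000068200003d0000090000000000100004b00000d0002000008300003b0000080000000000100004500000c0000000011200003c00000a00000000000ffffff00000000000000702000039000009000400000a300003e00000a000000005c2000038000009000200000730000360000070000000000100004000000b0000000011200003700000900000000000ffffff0000000005000006300002f00000600000000992000033000007000000008d20000320000080000000000100003a00000a000000005120000310000080000000029200003000000800000000000ffffff0000000005000004300002900000400040000083000034000008000000008d200002c000005000000000010000350000090000000051200002b0000070000000029200002a00000700000000000ffffff0000000000000000100002e000008000400000430000230000040000000081200002700000600000000692000026000006000000004920000250000060000000021200002400000600000000000ffffff0000000005000003300001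d000003000000009920000200000050003000007300002d000007000000007120000210000050000000051200001f0000050000000029200001e00000500000000000ffffff000000000000000010000280000070000000000100002200000600030000033000018000003000000005d200001b0000040000000041200001a0000040000000019200001900000400000000000ffffff0000000000000000100001c000005000000006820000150000030000000000100001700000400020000023000013000002000000003520000160000030000000011200001400000300000000000ffffff000000000000005020000100000020000000048200000f0000020000000040200000e000002000000000010000120000030001000001300000d0000010000000005200001100000200000000000ffffff0000000000000028200000b0000010000000020200000a00000100000000182000009000001000000001020000080000010000000000100000c0000020000000000300000700000000000000000ffffff000000000000000450000050000000000000003500000400000000000000025000003000000000000000150000020000000000000000500000100000000000000001000006000001)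
/-- the definitions -/
noncomputable def tP : TT := .leaf (nat_lit 0xb3000000ab000000a3000000980000008a000000860000008300000079000000720000006c00000057000000540000004d0000004900000047000000400000003a000000330000002f00000021000000200000001a0000001800000010000000080000000000000000)
/-- the parents -/
noncomputable def tQ : TT := .leaf (nat_lit 0xb3000000ab000000a3000000980000008a000000860000008300000079000000720000006c00000057000000540000004d0000004900000047000000400000003a000000330000002f00000021000000200000001a0000001800000010000000080000000000000000)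
/-- the orbit tables -/
noncomputable def tO : TT := .leaf (nat_lit 0x0)
/-- the rule table -/
noncomputable def rT : RT := .node (nat_lit 82) (.node (nat_lit 41) (.node (nat_lit 20) (.node (nat_lit 10) (.node (nat_lit 5) (.node (nat_lit 2) (.node (nat_lit 1) (.leaf (nat_lit 0) (nat_lit 0) [nat_lit 0]) (.leaf (nat_lit 0) (nat_lit 0) [nat_lit 0])) (.node (nat_lit 3) (.leaf (nat_lit 0) (nat_lit 0) [nat_lit 0]) (.node (nat_lit 4) (.leaf (nat_lit 0) (nat_lit 0) [nat_lit 0]) (.leaf (nat_lit 4) (nat_lit 1) [nat_lit 0, nat_lit 1, nat_lit 0, nat_lit 1, nat_lit 0])))) (.node (nat_lit 7) (.node (nat_lit 6) (.leaf (nat_lit 5) (nat_lit 0) [nat_lit 1, nat_lit 0, nat_lit 1, nat_lit 0, nat_lit 1]) (.leaf (nat_lit 4) (nat_lit 1) [nat_lit 0, nat_lit 1, nat_lit 0, nat_lit 1, nat_lit 0])) (.node (nat_lit 8) (.leaf (nat_lit 5) (nat_lit 0) [nat_lit 1, nat_lit 0, nat_lit 1, nat_lit 0, nat_lit 1]) (.node (nat_lit 9) (.leaf (nat_lit 4) (nat_lit 1) [nat_lit 0, nat_lit 1, nat_lit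 0, nat_lit 1, nat_lit 0]) (.leaf (nat_lit 5) (nat_lit 0) [nat_lit 1, nat_lit 0, nat_lit 1, nat_lit 0, nat_lit 1]))))) (.node (nat_lit 15) (.node (nat_lit 12) (.node (nat_lit 11) (.leaf (nat_lit 5) (nat_lit 0) [nat_lit 1, nat_lit 0, nat_lit 1, nat_lit 0, nat_lit 1]) (.leaf (nat_lit 4) (nat_lit 1) [nat_lit 0, nat_lit 1, nat_lit 0, nat_lit 1, nat_lit 0])) (.node (nat_lit 13) (.leaf (nat_lit 5) (nat_lit 0) [nat_lit 1, nat_lit 0, nat_lit 1, nat_lit 0, nat_lit 1]) (.node (nat_lit 14) (.leaf (nat_lit 4) (nat_lit 1) [nat_lit 0, nat_lit 1, nat_lit 0, nat_lit 1, nat_lit 0]) (.leaf (nat_lit 5) (nat_lit 0) [nat_lit 1, nat_lit 0, nat_lit 1, nat_lit 0, nat_lit 1])))) (.node (nat_lit 17) (.node (nat_lit 16) (.leaf (nat_lit 4) (nat_lit 1) [nat_lit 0, nat_lit 1, nat_lit 0, nat_lit 1, nat_lit 0]) (.leaf (nat_lit 16) (nat_lit 2) [nat_lit 0, nat_lit 2, nat_lit 0])) (.node (nat_lit 18) (.leaf (nat_lit 17) (nat_lit 0) [nat_lit 2, nat_lit 0, nat_lit 2]) (.node (nat_lit 19) (.leaf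 (nat_lit 16) (nat_lit 2) [nat_lit 0, nat_lit 2, nat_lit 0]) (.leaf (nat_lit 17) (nat_lit 0) [nat_lit 2, nat_lit 0, nat_lit 2])))))) (.node (nat_lit 30) (.node (nat_lit 25) (.node (nat_lit 22) (.node (nat_lit 21) (.leaf (nat_lit 17) (nat_lit 0) [nat_lit 2, nat_lit 0, nat_lit 2]) (.leaf (nat_lit 16) (nat_lit 2) [nat_lit 0, nat_lit 2, nat_lit 0])) (.node (nat_lit 23) (.leaf (nat_lit 17) (nat_lit 0) [nat_lit 2, nat_lit 0, nat_lit 2]) (.node (nat_lit 24) (.leaf (nat_lit 16) (nat_lit 2) [nat_lit 0, nat_lit 2, nat_lit 0]) (.leaf (nat_lit 24) (nat_lit 3) [nat_lit 0, nat_lit 3, nat_lit 0])))) (.node (nat_lit 27) (.node (nat_lit 26) (.leaf (nat_lit 25) (nat_lit 0) [nat_lit 3, nat_lit 0, nat_lit 3]) (.leaf (nat_lit 24) (nat_lit 3) [nat_lit 0, nat_lit 3, nat_lit 0])) (.node (nat_lit 28) (.leaf (nat_lit 25) (nat_lit 0) [nat_lit 3, nat_lit 0, nat_lit 3]) (.node (nat_lit 29) (.leaf (nat_lit 25) (nat_lit 0) [nat_lit 3, nat_lit 0, nat_lit 3]) (.leaf (nat_lit 24) (nat_lit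 3) [nat_lit 0, nat_lit 3, nat_lit 0]))))) (.node (nat_lit 35) (.node (nat_lit 32) (.node (nat_lit 31) (.leaf (nat_lit 25) (nat_lit 0) [nat_lit 3, nat_lit 0, nat_lit 3]) (.leaf (nat_lit 24) (nat_lit 3) [nat_lit 0, nat_lit 3, nat_lit 0])) (.node (nat_lit 33) (.leaf (nat_lit 32) (nat_lit 4) [nat_lit 0, nat_lit 4, nat_lit 0]) (.node (nat_lit 34) (.leaf (nat_lit 33) (nat_lit 0) [nat_lit 4, nat_lit 0, nat_lit 4]) (.leaf (nat_lit 32) (nat_lit 4) [nat_lit 0, nat_lit 4, nat_lit 0])))) (.node (nat_lit 38) (.node (nat_lit 36) (.leaf (nat_lit 33) (nat_lit 0) [nat_lit 4, nat_lit 0, nat_lit 4]) (.node (nat_lit 37) (.leaf (nat_lit 33) (nat_lit 0) [nat_lit 4, nat_lit 0, nat_lit 4]) (.leaf (nat_lit 32) (nat_lit 4) [nat_lit 0, nat_lit 4, nat_lit 0]))) (.node (nat_lit 39) (.leaf (nat_lit 33) (nat_lit 0) [nat_lit 4, nat_lit 0, nat_lit 4]) (.node (nat_lit 40) (.leaf (nat_lit 32) (nat_lit 4) [nat_lit 0, nat_lit 4, nat_lit 0]) (.leaf (nat_lit 40) (nat_lit 5) [nat_lit 0, nat_lit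 5, nat_lit 0]))))))) (.node (nat_lit 61) (.node (nat_lit 51) (.node (nat_lit 46) (.node (nat_lit 43) (.node (nat_lit 42) (.leaf (nat_lit 41) (nat_lit 0) [nat_lit 5, nat_lit 0, nat_lit 5]) (.leaf (nat_lit 40) (nat_lit 5) [nat_lit 0, nat_lit 5, nat_lit 0])) (.node (nat_lit 44) (.leaf (nat_lit 41) (nat_lit 0) [nat_lit 5, nat_lit 0, nat_lit 5]) (.node (nat_lit 45) (.leaf (nat_lit 41) (nat_lit 0) [nat_lit 5, nat_lit 0, nat_lit 5]) (.leaf (nat_lit 40) (nat_lit 5) [nat_lit 0, nat_lit 5, nat_lit 0])))) (.node (nat_lit 48) (.node (nat_lit 47) (.leaf (nat_lit 41) (nat_lit 0) [nat_lit 5, nat_lit 0, nat_lit 5]) (.leaf (nat_lit 40) (nat_lit 5) [nat_lit 0, nat_lit 5, nat_lit 0])) (.node (nat_lit 49) (.leaf (nat_lit 48) (nat_lit 1) [nat_lit 1]) (.node (nat_lit 50) (.leaf (nat_lit 48) (nat_lit 1) [nat_lit 1]) (.leaf (nat_lit 48) (nat_lit 1) [nat_lit 1]))))) (.node (nat_lit 56) (.node (nat_lit 53) (.node (nat_lit 52) (.leaf (nat_lit 48) (nat_lit 1) [nat_lit 1]) (.leaf (nat_lit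 52) (nat_lit 2) [nat_lit 1, nat_lit 2, nat_lit 1, nat_lit 2, nat_lit 1])) (.node (nat_lit 54) (.leaf (nat_lit 53) (nat_lit 1) [nat_lit 2, nat_lit 1, nat_lit 2, nat_lit 1, nat_lit 2]) (.node (nat_lit 55) (.leaf (nat_lit 52) (nat_lit 2) [nat_lit 1, nat_lit 2, nat_lit 1, nat_lit 2, nat_lit 1]) (.leaf (nat_lit 53) (nat_lit 1) [nat_lit 2, nat_lit 1, nat_lit 2, nat_lit 1, nat_lit 2])))) (.node (nat_lit 58) (.node (nat_lit 57) (.leaf (nat_lit 52) (nat_lit 2) [nat_lit 1, nat_lit 2, nat_lit 1, nat_lit 2, nat_lit 1]) (.leaf (nat_lit 53) (nat_lit 1) [nat_lit 2, nat_lit 1, nat_lit 2, nat_lit 1, nat_lit 2])) (.node (nat_lit 59) (.leaf (nat_lit 53) (nat_lit 1) [nat_lit 2, nat_lit 1, nat_lit 2, nat_lit 1, nat_lit 2]) (.node (nat_lit 60) (.leaf (nat_lit 52) (nat_lit 2) [nat_lit 1, nat_lit 2, nat_lit 1, nat_lit 2, nat_lit 1]) (.leaf (nat_lit 53) (nat_lit 1) [nat_lit 2, nat_lit 1, nat_lit 2, nat_lit 1, nat_lit 2])))))) (.node (nat_lit 71) (.node (nat_lit 66) (.node (nat_lit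 63) (.node (nat_lit 62) (.leaf (nat_lit 52) (nat_lit 2) [nat_lit 1, nat_lit 2, nat_lit 1, nat_lit 2, nat_lit 1]) (.leaf (nat_lit 53) (nat_lit 1) [nat_lit 2, nat_lit 1, nat_lit 2, nat_lit 1, nat_lit 2])) (.node (nat_lit 64) (.leaf (nat_lit 52) (nat_lit 2) [nat_lit 1, nat_lit 2, nat_lit 1, nat_lit 2, nat_lit 1]) (.node (nat_lit 65) (.leaf (nat_lit 64) (nat_lit 3) [nat_lit 1, nat_lit 3, nat_lit 1]) (.leaf (nat_lit 65) (nat_lit 1) [nat_lit 3, nat_lit 1, nat_lit 3])))) (.node (nat_lit 68) (.node (nat_lit 67) (.leaf (nat_lit 64) (nat_lit 3) [nat_lit 1, nat_lit 3, nat_lit 1]) (.leaf (nat_lit 65) (nat_lit 1) [nat_lit 3, nat_lit 1, nat_lit 3])) (.node (nat_lit 69) (.leaf (nat_lit 65) (nat_lit 1) [nat_lit 3, nat_lit 1, nat_lit 3]) (.node (nat_lit 70) (.leaf (nat_lit 64) (nat_lit 3) [nat_lit 1, nat_lit 3, nat_lit 1]) (.leaf (nat_lit 65) (nat_lit 1) [nat_lit 3, nat_lit 1, nat_lit 3]))))) (.node (nat_lit 76) (.node (nat_lit 73) (.node (nat_lit 72) (.leaf (nat_lit 64)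 (nat_lit 3) [nat_lit 1, nat_lit 3, nat_lit 1]) (.leaf (nat_lit 72) (nat_lit 4) [nat_lit 1, nat_lit 4, nat_lit 1])) (.node (nat_lit 74) (.leaf (nat_lit 73) (nat_lit 1) [nat_lit 4, nat_lit 1, nat_lit 4]) (.node (nat_lit 75) (.leaf (nat_lit 72) (nat_lit 4) [nat_lit 1, nat_lit 4, nat_lit 1]) (.leaf (nat_lit 73) (nat_lit 1) [nat_lit 4, nat_lit 1, nat_lit 4])))) (.node (nat_lit 79) (.node (nat_lit 77) (.leaf (nat_lit 73) (nat_lit 1) [nat_lit 4, nat_lit 1, nat_lit 4]) (.node (nat_lit 78) (.leaf (nat_lit 72) (nat_lit 4) [nat_lit 1, nat_lit 4, nat_lit 1]) (.leaf (nat_lit 73) (nat_lit 1) [nat_lit 4, nat_lit 1, nat_lit 4]))) (.node (nat_lit 80) (.leaf (nat_lit 72) (nat_lit 4) [nat_lit 1, nat_lit 4, nat_lit 1]) (.node (nat_lit 81) (.leaf (nat_lit 80) (nat_lit 5) [nat_lit 1, nat_lit 5, nat_lit 1]) (.leaf (nat_lit 81) (nat_lit 1) [nat_lit 5, nat_lit 1, nat_lit 5])))))))) (.node (nat_lit 123) (.node (nat_lit 102) (.node (nat_lit 92) (.node (nat_lit 87) (.node (nat_lit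 84) (.node (nat_lit 83) (.leaf (nat_lit 80) (nat_lit 5) [nat_lit 1, nat_lit 5, nat_lit 1]) (.leaf (nat_lit 81) (nat_lit 1) [nat_lit 5, nat_lit 1, nat_lit 5])) (.node (nat_lit 85) (.leaf (nat_lit 81) (nat_lit 1) [nat_lit 5, nat_lit 1, nat_lit 5]) (.node (nat_lit 86) (.leaf (nat_lit 80) (nat_lit 5) [nat_lit 1, nat_lit 5, nat_lit 1]) (.leaf (nat_lit 81) (nat_lit 1) [nat_lit 5, nat_lit 1, nat_lit 5])))) (.node (nat_lit 89) (.node (nat_lit 88) (.leaf (nat_lit 80) (nat_lit 5) [nat_lit 1, nat_lit 5, nat_lit 1]) (.leaf (nat_lit 88) (nat_lit 2) [nat_lit 2])) (.node (nat_lit 90) (.leaf (nat_lit 88) (nat_lit 2) [nat_lit 2]) (.node (nat_lit 91) (.leaf (nat_lit 88) (nat_lit 2) [nat_lit 2]) (.leaf (nat_lit 88) (nat_lit 2) [nat_lit 2]))))) (.node (nat_lit 97) (.node (nat_lit 94) (.node (nat_lit 93) (.leaf (nat_lit 92) (nat_lit 3) [nat_lit 2, nat_lit 3, nat_lit 2, nat_lit 3, nat_lit 2]) (.leaf (nat_lit 93) (nat_lit 2) [nat_lit 3, nat_lit 2, nat_lit 3, nat_lit 2, nat_lit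 3])) (.node (nat_lit 95) (.leaf (nat_lit 92) (nat_lit 3) [nat_lit 2, nat_lit 3, nat_lit 2, nat_lit 3, nat_lit 2]) (.node (nat_lit 96) (.leaf (nat_lit 93) (nat_lit 2) [nat_lit 3, nat_lit 2, nat_lit 3, nat_lit 2, nat_lit 3]) (.leaf (nat_lit 92) (nat_lit 3) [nat_lit 2, nat_lit 3, nat_lit 2, nat_lit 3, nat_lit 2])))) (.node (nat_lit 99) (.node (nat_lit 98) (.leaf (nat_lit 93) (nat_lit 2) [nat_lit 3, nat_lit 2, nat_lit 3, nat_lit 2, nat_lit 3]) (.leaf (nat_lit 93) (nat_lit 2) [nat_lit 3, nat_lit 2, nat_lit 3, nat_lit 2, nat_lit 3])) (.node (nat_lit 100) (.leaf (nat_lit 92) (nat_lit 3) [nat_lit 2, nat_lit 3, nat_lit 2, nat_lit 3, nat_lit 2]) (.node (nat_lit 101) (.leaf (nat_lit 93) (nat_lit 2) [nat_lit 3, nat_lit 2, nat_lit 3, nat_lit 2, nat_lit 3]) (.leaf (nat_lit 92) (nat_lit 3) [nat_lit 2, nat_lit 3, nat_lit 2, nat_lit 3, nat_lit 2])))))) (.node (nat_lit 112) (.node (nat_lit 107) (.node (nat_lit 104) (.node (nat_lit 103) (.leaf (nat_lit 93) (nat_lit 2) [nat_lit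 3, nat_lit 2, nat_lit 3, nat_lit 2, nat_lit 3]) (.leaf (nat_lit 92) (nat_lit 3) [nat_lit 2, nat_lit 3, nat_lit 2, nat_lit 3, nat_lit 2])) (.node (nat_lit 105) (.leaf (nat_lit 104) (nat_lit 4) [nat_lit 2, nat_lit 4, nat_lit 2]) (.node (nat_lit 106) (.leaf (nat_lit 105) (nat_lit 2) [nat_lit 4, nat_lit 2, nat_lit 4]) (.leaf (nat_lit 104) (nat_lit 4) [nat_lit 2, nat_lit 4, nat_lit 2])))) (.node (nat_lit 109) (.node (nat_lit 108) (.leaf (nat_lit 105) (nat_lit 2) [nat_lit 4, nat_lit 2, nat_lit 4]) (.leaf (nat_lit 105) (nat_lit 2) [nat_lit 4, nat_lit 2, nat_lit 4])) (.node (nat_lit 110) (.leaf (nat_lit 104) (nat_lit 4) [nat_lit 2, nat_lit 4, nat_lit 2]) (.node (nat_lit 111) (.leaf (nat_lit 105) (nat_lit 2) [nat_lit 4, nat_lit 2, nat_lit 4]) (.leaf (nat_lit 104) (nat_lit 4) [nat_lit 2, nat_lit 4, nat_lit 2]))))) (.node (nat_lit 117) (.node (nat_lit 114) (.node (nat_lit 113) (.leaf (nat_lit 112) (nat_lit 5) [nat_lit 2, nat_lit 5, nat_lit 2, nat_lit 5, nat_lit 2])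 (.leaf (nat_lit 113) (nat_lit 2) [nat_lit 5, nat_lit 2, nat_lit 5, nat_lit 2, nat_lit 5])) (.node (nat_lit 115) (.leaf (nat_lit 112) (nat_lit 5) [nat_lit 2, nat_lit 5, nat_lit 2, nat_lit 5, nat_lit 2]) (.node (nat_lit 116) (.leaf (nat_lit 113) (nat_lit 2) [nat_lit 5, nat_lit 2, nat_lit 5, nat_lit 2, nat_lit 5]) (.leaf (nat_lit 112) (nat_lit 5) [nat_lit 2, nat_lit 5, nat_lit 2, nat_lit 5, nat_lit 2])))) (.node (nat_lit 120) (.node (nat_lit 118) (.leaf (nat_lit 113) (nat_lit 2) [nat_lit 5, nat_lit 2, nat_lit 5, nat_lit 2, nat_lit 5]) (.node (nat_lit 119) (.leaf (nat_lit 113) (nat_lit 2) [nat_lit 5, nat_lit 2, nat_lit 5, nat_lit 2, nat_lit 5]) (.leaf (nat_lit 112) (nat_lit 5) [nat_lit 2, nat_lit 5, nat_lit 2, nat_lit 5, nat_lit 2]))) (.node (nat_lit 121) (.leaf (nat_lit 113) (nat_lit 2) [nat_lit 5, nat_lit 2, nat_lit 5, nat_lit 2, nat_lit 5]) (.node (nat_lit 122) (.leaf (nat_lit 112) (nat_lit 5) [nat_lit 2, nat_lit 5, nat_lit 2, nat_lit 5, nat_lit 2]) (.leaf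 (nat_lit 113) (nat_lit 2) [nat_lit 5, nat_lit 2, nat_lit 5, nat_lit 2, nat_lit 5]))))))) (.node (nat_lit 143) (.node (nat_lit 133) (.node (nat_lit 128) (.node (nat_lit 125) (.node (nat_lit 124) (.leaf (nat_lit 112) (nat_lit 5) [nat_lit 2, nat_lit 5, nat_lit 2, nat_lit 5, nat_lit 2]) (.leaf (nat_lit 124) (nat_lit 3) [nat_lit 3])) (.node (nat_lit 126) (.leaf (nat_lit 124) (nat_lit 3) [nat_lit 3]) (.node (nat_lit 127) (.leaf (nat_lit 124) (nat_lit 3) [nat_lit 3]) (.leaf (nat_lit 124) (nat_lit 3) [nat_lit 3])))) (.node (nat_lit 130) (.node (nat_lit 129) (.leaf (nat_lit 128) (nat_lit 4) [nat_lit 3, nat_lit 4, nat_lit 3, nat_lit 4, nat_lit 3]) (.leaf (nat_lit 129) (nat_lit 3) [nat_lit 4, nat_lit 3, nat_lit 4, nat_lit 3, nat_lit 4])) (.node (nat_lit 131) (.leaf (nat_lit 128) (nat_lit 4) [nat_lit 3, nat_lit 4, nat_lit 3, nat_lit 4, nat_lit 3]) (.node (nat_lit 132) (.leaf (nat_lit 129) (nat_lit 3) [nat_lit 4, nat_lit 3, nat_lit 4, nat_lit 3, nat_lit 4]) (.leaf (nat_lit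 128) (nat_lit 4) [nat_lit 3, nat_lit 4, nat_lit 3, nat_lit 4, nat_lit 3]))))) (.node (nat_lit 138) (.node (nat_lit 135) (.node (nat_lit 134) (.leaf (nat_lit 129) (nat_lit 3) [nat_lit 4, nat_lit 3, nat_lit 4, nat_lit 3, nat_lit 4]) (.leaf (nat_lit 129) (nat_lit 3) [nat_lit 4, nat_lit 3, nat_lit 4, nat_lit 3, nat_lit 4])) (.node (nat_lit 136) (.leaf (nat_lit 128) (nat_lit 4) [nat_lit 3, nat_lit 4, nat_lit 3, nat_lit 4, nat_lit 3]) (.node (nat_lit 137) (.leaf (nat_lit 129) (nat_lit 3) [nat_lit 4, nat_lit 3, nat_lit 4, nat_lit 3, nat_lit 4]) (.leaf (nat_lit 128) (nat_lit 4) [nat_lit 3, nat_lit 4, nat_lit 3, nat_lit 4, nat_lit 3])))) (.node (nat_lit 140) (.node (nat_lit 139) (.leaf (nat_lit 129) (nat_lit 3) [nat_lit 4, nat_lit 3, nat_lit 4, nat_lit 3, nat_lit 4]) (.leaf (nat_lit 128) (nat_lit 4) [nat_lit 3, nat_lit 4, nat_lit 3, nat_lit 4, nat_lit 3])) (.node (nat_lit 141) (.leaf (nat_lit 140) (nat_lit 5) [nat_lit 3, nat_lit 5, nat_lit 3]) (.node (nat_lit 142)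 (.leaf (nat_lit 141) (nat_lit 3) [nat_lit 5, nat_lit 3, nat_lit 5]) (.leaf (nat_lit 140) (nat_lit 5) [nat_lit 3, nat_lit 5, nat_lit 3])))))) (.node (nat_lit 153) (.node (nat_lit 148) (.node (nat_lit 145) (.node (nat_lit 144) (.leaf (nat_lit 141) (nat_lit 3) [nat_lit 5, nat_lit 3, nat_lit 5]) (.leaf (nat_lit 141) (nat_lit 3) [nat_lit 5, nat_lit 3, nat_lit 5])) (.node (nat_lit 146) (.leaf (nat_lit 140) (nat_lit 5) [nat_lit 3, nat_lit 5, nat_lit 3]) (.node (nat_lit 147) (.leaf (nat_lit 141) (nat_lit 3) [nat_lit 5, nat_lit 3, nat_lit 5]) (.leaf (nat_lit 140) (nat_lit 5) [nat_lit 3, nat_lit 5, nat_lit 3])))) (.node (nat_lit 150) (.node (nat_lit 149) (.leaf (nat_lit 148) (nat_lit 4) [nat_lit 4]) (.leaf (nat_lit 148) (nat_lit 4) [nat_lit 4])) (.node (nat_lit 151) (.leaf (nat_lit 148) (nat_lit 4) [nat_lit 4]) (.node (nat_lit 152) (.leaf (nat_lit 148) (nat_lit 4) [nat_lit 4]) (.leaf (nat_lit 152) (nat_lit 5) [nat_lit 4, nat_lit 5, nat_lit 4]))))) (.node (nat_lit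 158) (.node (nat_lit 155) (.node (nat_lit 154) (.leaf (nat_lit 153) (nat_lit 4) [nat_lit 5, nat_lit 4, nat_lit 5]) (.leaf (nat_lit 152) (nat_lit 5) [nat_lit 4, nat_lit 5, nat_lit 4])) (.node (nat_lit 156) (.leaf (nat_lit 153) (nat_lit 4) [nat_lit 5, nat_lit 4, nat_lit 5]) (.node (nat_lit 157) (.leaf (nat_lit 153) (nat_lit 4) [nat_lit 5, nat_lit 4, nat_lit 5]) (.leaf (nat_lit 152) (nat_lit 5) [nat_lit 4, nat_lit 5, nat_lit 4])))) (.node (nat_lit 161) (.node (nat_lit 159) (.leaf (nat_lit 153) (nat_lit 4) [nat_lit 5, nat_lit 4, nat_lit 5]) (.node (nat_lit 160) (.leaf (nat_lit 152) (nat_lit 5) [nat_lit 4, nat_lit 5, nat_lit 4]) (.leaf (nat_lit 160) (nat_lit 5) [nat_lit 5]))) (.node (nat_lit 162) (.leaf (nat_lit 160) (nat_lit 5) [nat_lit 5]) (.node (nat_lit 163) (.leaf (nat_lit 160) (nat_lit 5) [nat_lit 5]) (.leaf (nat_lit 160) (nat_lit 5) [nat_lit 5]))))))))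
/-- the relators -/
def relsL : List (List ℕ) := [[nat_lit 0, nat_lit 0],
  [nat_lit 1, nat_lit 0, nat_lit 1, nat_lit 0, nat_lit 1, nat_lit 0],
  [nat_lit 2, nat_lit 0, nat_lit 2, nat_lit 0],
  [nat_lit 3, nat_lit 0, nat_lit 3, nat_lit 0],
  [nat_lit 4, nat_lit 0, nat_lit 4, nat_lit 0],
  [nat_lit 5, nat_lit 0, nat_lit 5, nat_lit 0],
  [nat_lit 1, nat_lit 1],
  [nat_lit 2, nat_lit 1, nat_lit 2, nat_lit 1, nat_lit 2, nat_lit 1],
  [nat_lit 3, nat_lit 1, nat_lit 3, nat_lit 1],
  [nat_lit 4, nat_lit 1, nat_lit 4, nat_lit 1],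
  [nat_lit 5, nat_lit 1, nat_lit 5, nat_lit 1],
  [nat_lit 2, nat_lit 2],
  [nat_lit 3, nat_lit 2, nat_lit 3, nat_lit 2, nat_lit 3, nat_lit 2],
  [nat_lit 4, nat_lit 2, nat_lit 4, nat_lit 2],
  [nat_lit 5, nat_lit 2, nat_lit 5, nat_lit 2, nat_lit 5, nat_lit 2],
  [nat_lit 3, nat_lit 3],
  [nat_lit 4, nat_lit 3, nat_lit 4, nat_lit 3, nat_lit 4, nat_lit 3],
  [nat_lit 5, nat_lit 3, nat_lit 5, nat_lit 3],
  [nat_lit 4, nat_lit 4],
  [nat_lit 5, nat_lit 4, nat_lit 5, nat_lit 4],
  [nat_lit 5, nat_lit 5]]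
/-- the subgroup words -/
def hwL : List (List ℕ) := [[nat_lit 1],
  [nat_lit 2],
  [nat_lit 3],
  [nat_lit 4],
  [nat_lit 5]]

/-- the certificate -/
noncomputable def cfg : Cfg :=
  mkCfg (fun k => TT.fld tE (nat_lit 92) (nat_lit 1023) (nat_lit 4951760157141521099596496895) k)
    (nat_lit 189) (nat_lit 27) (nat_lit 27) (nat_lit 6) (nat_lit 7)
    (fun x => x)
    (fun k => TT.fld tP (nat_lit 32) (nat_lit 1023) (nat_lit 4294967295) k)
    (fun k => TT.fld tQ (nat_lit 32) (nat_lit 1023) (nat_lit 4294967295) k)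
    rT hwL

/-- the orbit certificate -/
noncomputable def oc : OCert where
  oid := fun j => Nat.land (TT.fld tO (nat_lit 64) (nat_lit 1023) (nat_lit 18446744073709551615) j) (nat_lit 65535)
  prnt := fun j => Nat.land (Nat.shiftRight (TT.fld tO (nat_lit 64) (nat_lit 1023) (nat_lit 18446744073709551615) j) (nat_lit 16)) (nat_lit 16777215)
  pw := fun j => Nat.land (Nat.shiftRight (TT.fld tO (nat_lit 64) (nat_lit 1023) (nat_lit 18446744073709551615) j) (nat_lit 40)) (nat_lit 255)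
  rk := fun j => Nat.shiftRight (TT.fld tO (nat_lit 64) (nat_lit 1023) (nat_lit 18446744073709551615) j) (nat_lit 48)
  rep := fun d => List.getD [] d 0

/-- the relators -/
def rsL : List (FreeGroup (Fin 6)) := Cfsg.Agent.Lib.Fischer.M23.Mult.Words.relsCox Cfsg.Agent.Lib.Fischer.M23.Mult.Words.lE6

/-- the group side of the certificate -/
def D : Data (Fin 6) where
  lets := [(0,true),(1,true),(2,true),(3,true),(4,true),(5,true)]
  rs := rsL
  Hs := [(FreeGroup.of (1 : Fin 6)), (FreeGroup.of (2 : Fin 6)), (FreeGroup.of (3 : Fin 6)), (FreeGroup.of (4 : Fin 6)), (FreeGroup.of (5 : Fin 6))]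
  rels := relsL
  hw := hwL

end Cfsg.Agent.Lib.Compute.TC.MWE6
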